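import Cfsg.Agent.RD.RED
import Cfsg.Agent.RD.IND
import Cfsg.Agent.RD.CX
import Cfsg.Agent.RD.W
import Cfsg.Agent.RD.NE
import Cfsg.Agent.RD.SW
import Cfsg.Agent.RD.FN
import Cfsg.Agent.S0205

/-! Solvability from the arithmetic hypothesis on real elements of odd order. -/

set_option autoImplicit false

namespace Cfsg.Agent.RD

universe u

theorem solv {G : Type u} [Group G] [Finite G] (h : HH G) : Group.IsSolvable G :=
  ind (fun T _ _ _ hT => by
    by_contra ns
    have ev : 2 ∣ Nat.card T := by
      by_contra h2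
      exact ns (Cfsg.Agent.S0205.result (Nat.odd_iff.2 (by omega)))
    have c := cx' ns ev hT
    have n := ne c (wl c)
    exact fin ns c n (fun ne _ h1 h2 mx _ _ _ => sw c n ne h1 h2 mx)) G h

end Cfsg.Agent.RD
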