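import Cfsg.Agent.RD.A
import Cfsg.Agent.H25.Real
import Cfsg.Agent.L0.SymSyl

/-! From a disconnected real class size graph to the arithmetic hypothesis. -/

set_option autoImplicit false

namespace Cfsg.Agent.RD

open Subgroup

variable {G : Type*} [Group G] [Finite G]

theorem RO.ev {x : G} (h : RO x) : 2 ∣ (centralizer ({x} : Set G)).index := by
  by_contra c
  have h1 := H25.sq_eq_one_of_real_of_odd_index h.2.2 c
  have h2 : orderOf x ∣ 2 := orderOf_dvd_of_pow_eq_one (by rwa [pow_two])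
  rcases (Nat.dvd_prime Nat.prime_two).1 h2 with e | e
  · exact h.1 (orderOf_eq_one_iff.1 e)
  · have := h.2.1
    rw [e] at this
    exact absurd this (by decide)

theorem red0 (π₁ π₂ : Set ℕ)
    (cov : ∀ (q : ℕ) (x : G), q.Prime → IsConj x x⁻¹ → q ∣ (centralizer ({x} : Set G)).index →
      q ∈ π₁ ∨ q ∈ π₂)
    (no : ∀ a ∈ π₁, ∀ b ∈ π₂, ∀ x : G, IsConj x x⁻¹ → a ∣ (centralizer ({x} : Set G)).index →
      b ∣ (centralizer ({x} : Set G)).index → False)
    (h2 : 2 ∈ π₁) {q : ℕ} (hq : q ∈ π₂) {z : G} (hz : IsConj z z⁻¹)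
    (qz : q ∣ (centralizer ({z} : Set G)).index) :
    z * z = 1 ∧ ¬ 2 ∣ (centralizer ({z} : Set G)).index ∧
      Nat.card (Sylow 2 G) ∣ (centralizer ({z} : Set G)).index ∧
      ∀ x : G, RO x → (centralizer ({x} : Set G)).index.Coprime (centralizer ({z} : Set G)).index := by
  have oz : ¬ 2 ∣ (centralizer ({z} : Set G)).index := fun c => no 2 h2 q hq z hz c qz
  have z2 := H25.sq_eq_one_of_real_of_odd_index hz oz
  refine ⟨z2, oz, ?_, fun x hx => ?_⟩
  · obtain ⟨S, hS⟩ := L0.SymSyl.exists_sylow_le_of_odd (centralizer ({z} : Set G))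
      (Nat.not_even_iff_odd.1 fun e => oz e.two_dvd)
    have hn := H25.sylow_two_normal_of_no_real (S.subtype hS) (fun x x1 xo xc => by
      obtain ⟨t, ht⟩ := isConj_iff.1 xc
      have ht' : (t : G) * x * (t : G)⁻¹ = (x : G)⁻¹ := congrArg Subtype.val ht
      have cx : Commute z (x : G) := (mem_centralizer_singleton_iff.1 x.2).symm
      have ct : (t : G) * z = z * t := mem_centralizer_singleton_iff.1 t.2
      have xo' : Odd (orderOf (x : G)) := by rwa [orderOf_coe]
      have ro : RO (x : G) := ⟨fun e => x1 (Subtype.ext e), xo', isConj_iff.2 ⟨_, ht'⟩⟩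
      have zi : z⁻¹ = z := inv_eq_of_mul_eq_one_right z2
      have r : IsConj (z * x) (z * (x : G))⁻¹ := isConj_iff.2 ⟨t, by
        rw [← mul_assoc, ct, mul_assoc z, mul_assoc z, ht', cx.eq, mul_inv_rev, zi]⟩
      obtain ⟨k, hk⟩ := xo'
      have z3 : z ^ (2 * k) = 1 := by rw [pow_mul, pow_two, z2, one_pow]
      have p1 : (z * x) ^ (2 * k + 1) = z := by
        rw [cx.mul_pow, pow_succ z, z3, one_mul, ← hk, pow_orderOf_eq_one, mul_one]
      have p2 : (z * x) ^ (2 * k + 1 + 1) = x := by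
        rw [pow_succ, p1, ← mul_assoc, z2, one_mul]
      have le : ∀ m : ℕ, centralizer ({z * (x : G)} : Set G) ≤ centralizer {(z * (x : G)) ^ m} :=
        fun m g hg => mem_centralizer_singleton_iff.2
          (Commute.pow_right (mem_centralizer_singleton_iff.1 hg) m)
      have d1 := index_dvd_of_le (le (2 * k + 1))
      have d2 := index_dvd_of_le (le (2 * k + 1 + 1))
      rw [p1] at d1
      rw [p2] at d2
      exact no 2 h2 q hq _ r (ro.ev.trans d2) (qz.trans d1))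
    rw [Sylow.card_eq_index_normalizer S]
    refine index_dvd_of_le ?_
    rw [Sylow.coe_subtype] at hn
    exact (normal_subgroupOf_iff_le_normalizer hS).1 hn
  · by_contra c
    obtain ⟨r, hr, r1, r2⟩ := Nat.Prime.not_coprime_iff_dvd.1 c
    rcases cov r z hr hz r2 with e | e
    · exact no r e q hq z hz r2 qz
    · exact no 2 h2 r e x hx.2.2 hx.ev r1

theorem red (π₁ π₂ : Set ℕ) (h₁ : π₁.Nonempty) (h₂ : π₂.Nonempty)
    (cov : ∀ (q : ℕ) (x : G), q.Prime → IsConj x x⁻¹ → q ∣ (centralizer ({x} : Set G)).index →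
      q ∈ π₁ ∨ q ∈ π₂)
    (sub : ∀ q ∈ π₁ ∪ π₂, ∃ x : G, IsConj x x⁻¹ ∧ q ∣ (centralizer ({x} : Set G)).index)
    (no : ∀ a ∈ π₁, ∀ b ∈ π₂, ∀ x : G, IsConj x x⁻¹ → a ∣ (centralizer ({x} : Set G)).index →
      b ∣ (centralizer ({x} : Set G)).index → False) : HH G := by
  intro x hx
  rcases cov 2 x Nat.prime_two hx.2.2 hx.ev with e | e
  · obtain ⟨q, hq⟩ := h₂
    obtain ⟨z, hz, qz⟩ := sub q (Or.inr hq)
    obtain ⟨-, -, a, b⟩ := red0 π₁ π₂ cov no e hq hz qz
    exact (b x hx).coprime_dvd_right a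
  · obtain ⟨q, hq⟩ := h₁
    obtain ⟨z, hz, qz⟩ := sub q (Or.inl hq)
    obtain ⟨-, -, a, b⟩ := red0 π₂ π₁ (fun q x a b c => (cov q x a b c).symm)
      (fun a ha b hb x c d f => no b hb a ha x c f d) e hq hz qz
    exact (b x hx).coprime_dvd_right a

end Cfsg.Agent.RD
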