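import Cfsg.Agent.RD.A

/-! No real element of odd order normalizes a subgroup between `Zc S` and `S`. -/

set_option autoImplicit false

namespace Cfsg.Agent.RD

open Subgroup

variable {G : Type*} [Group G]

namespace W2

/-- the largest `y`-invariant subgroup of `Q` -/
def DD (y : G) (Q : Sylow 2 G) : Subgroup G where
  carrier := {x | ∀ j : ℤ, (y ^ j)⁻¹ * x * y ^ j ∈ (Q : Subgroup G)}
  one_mem' := fun j => by simp
  mul_mem' := fun {a b} ha hb j => by convert mul_mem (ha j) (hb j) using 1; group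
  inv_mem' := fun {a} ha j => by convert inv_mem (ha j) using 1; group

variable {y c g : G} {Q R : Sylow 2 G} {X : Subgroup G}

theorem dle : DD y Q ≤ Q := fun x hx => by simpa using hx 0

theorem dn : y ∈ normalizer (DD y Q : Set G) := mem_normalizer_iff''.2 fun x =>
  ⟨fun h j => by convert h (1 + j) using 1; group, fun h j => by convert h (j - 1) using 1; group⟩

theorem led (h : X ≤ Q) (hy : y ∈ normalizer (X : Set G)) : X ≤ DD y Q := fun x hx j =>
  h ((mem_normalizer_iff''.1 (zpow_mem hy j) x).1 hx)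

theorem dsm (e : c * y = y * c) {x : G} : x ∈ DD y (c • Q) ↔ c⁻¹ * x * c ∈ DD y Q := by
  refine forall_congr' fun j => ?_
  have k : c * y ^ j = y ^ j * c := (Commute.zpow_right e j :)
  rw [mem_sm, show c⁻¹ * ((y ^ j)⁻¹ * x * y ^ j) * c = (y ^ j * c)⁻¹ * x * (y ^ j * c) by group, ← k]
  exact Iff.of_eq (by congr 1; group)

theorem zle : Zc (g • R) ≤ X ↔ ∀ t ∈ Zc R, g * t * g⁻¹ ∈ X :=
  ⟨fun h t ht => h (mem_Zc_sm.2 (by simpa [mul_assoc] using ht)), fun h t ht => by
    simpa [mul_assoc] using h _ (mem_Zc_sm.1 ht)⟩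

theorem zn (hg : g ∈ normalizer (X : Set G)) (h : Zc R ≤ X) : Zc (g • R) ≤ X :=
  zle.2 fun t ht => (mem_normalizer_iff.1 hg t).1 (h ht)

theorem nW [Finite G] {O : Set (Sylow 2 G)} (h : ∀ R ∈ O, g • R ∈ O) :
    g ∈ normalizer ((⨆ R ∈ O, Zc R : Subgroup G) : Set G) := by
  refine mem_normalizer_fintype fun n hn => ?_
  have : (⨆ R ∈ O, Zc R : Subgroup G) ≤ (⨆ R ∈ O, Zc R : Subgroup G).comap (MulAut.conj g).toMonoidHom :=
    iSup₂_le fun R hR t ht => zle.1 (le_iSup₂ (f := fun R (_ : R ∈ O) => Zc R) (g • R) (h R hR)) t ht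
  exact this hn

end W2

open W2

theorem wl2 [Finite G] (h : Cx G) : WL G := by
  intro y S X hy h1 h2 h3
  haveI : Fact (Nat.Prime 2) := ⟨Nat.prime_two⟩
  have zS : Zc S ≤ DD y S := h1.trans (led h2 h3)
  have om : ∀ c, c * y = y * c → ∀ Q R : Sylow 2 G, Zc (c • R) ≤ DD y (c • Q) ↔ Zc R ≤ DD y Q := fun c e Q R => by
    rw [zle]
    refine forall₂_congr fun t _ => ?_
    rw [dsm e]
    exact Iff.of_eq (by congr 1; group)
  have zQ : ∀ Q : Sylow 2 G, Zc Q ≤ DD y Q := fun Q => by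
    obtain ⟨c, e, rfl⟩ := h.tr y hy S Q
    exact (om c e S S).2 zS
  have cd : ∀ Q : Sylow 2 G, {R : Sylow 2 G | Zc R ≤ DD y Q}.ncard = {R : Sylow 2 G | Zc R ≤ DD y S}.ncard := fun Q => by
    obtain ⟨c, e, rfl⟩ := h.tr y hy S Q
    rw [← Set.ncard_image_of_injective {R : Sylow 2 G | Zc R ≤ DD y S} (MulAction.injective c)]
    congr 1
    ext R
    refine ⟨fun hR => ⟨c⁻¹ • R, (om c e S _).1 (by rwa [smul_inv_smul]), smul_inv_smul c R⟩, ?_⟩
    rintro ⟨R, hR, rfl⟩
    exact (om c e S R).2 hR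
  set O : Set (Sylow 2 G) := {R | Zc R ≤ DD y S} with hO
  set W : Subgroup G := ⨆ R ∈ O, Zc R with hW
  have le : ∀ R ∈ O, Zc R ≤ W := fun R hR => le_iSup₂ (f := fun R (_ : R ∈ O) => Zc R) R hR
  have WD : W ≤ DD y S := iSup₂_le fun R hR => hR
  have WS : W ≤ S := WD.trans dle
  have yW : y ∈ normalizer (W : Set G) := nW fun R hR => zn dn hR
  have key : ∀ R : Sylow 2 G, Zc R ≤ normalizer (W : Set G) → R ∈ O := fun R hR => by
    have p1 : IsPGroup 2 (W ⊔ (DD y R ⊓ normalizer (W : Set G)) : Subgroup G) :=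
      IsPGroup.to_sup_of_normal_left' (S.isPGroup'.to_le WS) (R.isPGroup'.to_le (inf_le_left.trans dle)) inf_le_right
    obtain ⟨T, hT⟩ := p1.exists_le_sylow
    have y1 : y ∈ normalizer ((DD y R ⊓ normalizer (W : Set G) : Subgroup G) : Set G) :=
      inf_normalizer_le_normalizer_inf ⟨dn, le_normalizer yW⟩
    have p2 := led hT (normalizer_inf_normalizer_le_normalizer_sup _ _ ⟨yW, y1⟩)
    have sub : O ⊆ {R : Sylow 2 G | Zc R ≤ DD y T} := fun Q hQ => (le Q hQ).trans (le_sup_left.trans p2)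
    rw [Set.eq_of_subset_of_ncard_le sub (cd T).le]
    exact (le_inf (zQ R) hR).trans (le_sup_right.trans p2)
  have SN : (S : Subgroup G) ≤ normalizer (W : Set G) := by
    haveI := S.isPGroup'.isNilpotent
    have := normalizerCondition_iff_only_full_group_self_normalizing.1
      (Group.normalizerCondition_of_isNilpotent (G := (S : Subgroup G))) ((normalizer (W : Set G)).subgroupOf S)
      (le_antisymm (fun s hs => by
        refine mem_subgroupOf.2 (nW (g := (s : G)) fun R hR => key _ (zle.2 fun t ht => ?_))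
        exact mem_subgroupOf.1 ((mem_normalizer_iff.1 hs (⟨t, WS (le R hR ht)⟩ : (S : Subgroup G))).1
          (mem_subgroupOf.2 (le_normalizer (le R hR ht))))) le_normalizer)
    exact subgroupOf_eq_top.1 this
  exact h.nf y hy S (h.mx S W (fun e => h.zn S (eq_bot_iff.2 ((le S zS).trans e.le))) WS
    (fun g hg => nW fun R hR => key _ (le_trans (zle.2 fun t ht => by
      rw [← hg, mem_sm]; simpa [mul_assoc] using WS (le R hR ht)) SN)) y yW)

end Cfsg.Agent.RD
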