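import Cfsg.Agent.RD.A

/-! Piece W (second proof). -/

set_option autoImplicit false

namespace Cfsg.Agent.RD

open Subgroup

namespace W7

variable {G : Type*} [Group G] [Finite G]

/-- the largest `y`-invariant subgroup of `Q` -/
def D (y : G) (Q : Sylow 2 G) : Subgroup G := ⨅ j : ℤ, ((y ^ j • Q : Sylow 2 G) : Subgroup G)

omit [Finite G] in
theorem mem_D {y t : G} {Q : Sylow 2 G} : t ∈ D y Q ↔ ∀ j : ℤ, (y ^ j)⁻¹ * t * y ^ j ∈ (Q : Subgroup G) := by
  simp only [D, mem_iInf, mem_sm]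

omit [Finite G] in
theorem D_le (y : G) (Q : Sylow 2 G) : D y Q ≤ Q := fun t ht => by simpa using mem_D.1 ht 0

omit [Finite G] in
theorem le_D {y : G} {Q : Sylow 2 G} {X : Subgroup G} (h : X ≤ Q) (hy : y ∈ normalizer (X : Set G)) :
    X ≤ D y Q := fun t ht => mem_D.2 fun j => h ((mem_normalizer_iff''.1 (zpow_mem hy j) t).1 ht)

omit [Finite G] in
theorem D_conj {y t : G} {Q : Sylow 2 G} (i : ℤ) (ht : t ∈ D y Q) : (y ^ i)⁻¹ * t * y ^ i ∈ D y Q :=
  mem_D.2 fun j => by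
    have := mem_D.1 ht (i + j)
    have e : (y ^ (i + j))⁻¹ * t * y ^ (i + j) = (y ^ j)⁻¹ * ((y ^ i)⁻¹ * t * y ^ i) * y ^ j := by group
    rwa [e] at this

omit [Finite G] in
theorem D_sm {y c t : G} {Q : Sylow 2 G} (hc : c * y = y * c) : t ∈ D y (c • Q) ↔ c⁻¹ * t * c ∈ D y Q := by
  simp only [mem_D, mem_sm]
  refine forall_congr' fun j => ?_
  have hj : c * y ^ j = y ^ j * c := (Commute.zpow_right hc j).eq
  have e : c⁻¹ * ((y ^ j)⁻¹ * t * y ^ j) * c = (y ^ j)⁻¹ * (c⁻¹ * t * c) * y ^ j := by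
    calc _ = (y ^ j * c)⁻¹ * t * (y ^ j * c) := by group
      _ = _ := by rw [← hj]; group
  rw [e]

/-- join of the `Zc R` over a set of Sylow subgroups -/
def J (Ω : Set (Sylow 2 G)) : Subgroup G := ⨆ R ∈ Ω, Zc R

omit [Finite G] in
theorem le_J {Ω : Set (Sylow 2 G)} {R : Sylow 2 G} (h : R ∈ Ω) : Zc R ≤ J Ω :=
  le_iSup₂_of_le (f := fun R (_ : R ∈ Ω) => Zc R) R h le_rfl

omit [Finite G] in
theorem J_le {Ω : Set (Sylow 2 G)} {X : Subgroup G} (h : ∀ R ∈ Ω, Zc R ≤ X) : J Ω ≤ X := iSup₂_le h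

theorem J_norm {Ω : Set (Sylow 2 G)} {g : G} (h : ∀ R ∈ Ω, g • R ∈ Ω) : g ∈ normalizer (J Ω : Set G) := by
  apply mem_normalizer_fintype
  have : J Ω ≤ (J Ω).comap (MulAut.conj g).toMonoidHom := J_le fun R hR t ht =>
    le_J (h R hR) (mem_Zc_sm.2 (by simpa [mul_assoc] using ht))
  exact fun n hn => this hn

omit [Finite G] in
theorem Zc_sm_le {R : Sylow 2 G} {X : Subgroup G} {g : G} (h : Zc R ≤ X) (hg : g ∈ normalizer (X : Set G)) :
    Zc (g • R) ≤ X := fun t ht => (mem_normalizer_iff''.1 hg t).2 (h (mem_Zc_sm.1 ht))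

theorem D_norm (y : G) (Q : Sylow 2 G) : y ∈ normalizer (D y Q : Set G) := by
  apply mem_normalizer_fintype
  intro n hn
  simpa using D_conj (-1) hn

end W7

open W7 in
theorem wl7 {G : Type*} [Group G] [Finite G] (h : Cx G) : WL G := by
  intro y S X hy h1 h2 h3
  have : Fact (Nat.Prime 2) := ⟨Nat.prime_two⟩
  have zS : Zc S ≤ D y S := h1.trans (le_D h2 h3)
  have zQ : ∀ Q : Sylow 2 G, Zc Q ≤ D y Q := by
    intro Q
    obtain ⟨c, hc, rfl⟩ := h.tr y hy S Q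
    exact fun t ht => (D_sm hc).2 (zS (mem_Zc_sm.1 ht))
  let Ω : Sylow 2 G → Set (Sylow 2 G) := fun Q => {R | Zc R ≤ D y Q}
  have cΩ : ∀ Q, (Ω Q).ncard ≤ (Ω S).ncard := by
    intro Q
    obtain ⟨c, hc, rfl⟩ := h.tr y hy S Q
    refine Set.ncard_le_ncard_of_injOn (fun R => c⁻¹ • R) ?_ (MulAction.injective c⁻¹).injOn
    intro R hR t ht
    have := (D_sm hc).1 (hR (mem_Zc_sm.1 ht))
    simpa [mul_assoc] using this
  have yΩ : ∀ Q, ∀ R ∈ Ω Q, y • R ∈ Ω Q := fun Q R hR => Zc_sm_le hR (D_norm y Q)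
  have yW : y ∈ normalizer (J (Ω S) : Set G) := J_norm (yΩ S)
  have WS : J (Ω S) ≤ S := J_le fun R hR => le_trans hR (D_le y S)
  have key : ∀ R : Sylow 2 G, Zc R ≤ normalizer (J (Ω S) : Set G) → R ∈ Ω S := by
    intro R hR
    let Λ : Set (Sylow 2 G) := {R' | ∃ j : ℤ, R' = y ^ j • R}
    have yV : y ∈ normalizer (J Λ : Set G) := J_norm (by
      rintro _ ⟨j, rfl⟩
      exact ⟨1 + j, by rw [smul_smul, zpow_add, zpow_one]⟩)
    have VR : J Λ ≤ R := J_le (by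
      rintro _ ⟨j, rfl⟩
      exact (Zc_sm_le (zQ R) (zpow_mem (D_norm y R) j)).trans (D_le y R))
    have VN : J Λ ≤ normalizer (J (Ω S) : Set G) := J_le (by
      rintro _ ⟨j, rfl⟩
      exact Zc_sm_le hR (le_normalizer (zpow_mem yW j)))
    have p1 : IsPGroup 2 (J (Ω S)) := S.isPGroup'.to_le WS
    have p2 : IsPGroup 2 (J Λ) := R.isPGroup'.to_le VR
    have p3 : IsPGroup 2 (J (Ω S) ⊔ J Λ : Subgroup G) := p1.to_sup_of_normal_left' p2 VN
    obtain ⟨S4, h4⟩ := p3.exists_le_sylow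
    have h5 := le_D h4 (normalizer_inf_normalizer_le_normalizer_sup _ _ ⟨yW, yV⟩)
    have sub : Ω S ⊆ Ω S4 := fun R' hR' => (le_J hR').trans (le_sup_left.trans h5)
    have e : Ω S = Ω S4 := Set.eq_of_subset_of_ncard_le sub (cΩ S4)
    rw [e]
    exact (le_J (Ω := Λ) ⟨0, by simp⟩).trans (le_sup_right.trans h5)
  have SN : (S : Subgroup G) ≤ normalizer (J (Ω S) : Set G) := by
    let T : Subgroup S := (normalizer (J (Ω S) : Set G)).subgroupOf S
    have nil : Group.IsNilpotent S := S.isPGroup'.isNilpotent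
    have hT : T = ⊤ := by
      refine normalizerCondition_iff_only_full_group_self_normalizing.1
        Group.normalizerCondition_of_isNilpotent T (le_antisymm ?_ le_normalizer)
      intro n hn
      refine J_norm fun R hR => key _ fun t ht => ?_
      have ht' : (n : G)⁻¹ * t * n ∈ J (Ω S) := le_J hR (mem_Zc_sm.1 ht)
      have := (mem_normalizer_iff.1 hn ⟨_, WS ht'⟩).1 (le_normalizer ht')
      have e : (n : G) * ((n : G)⁻¹ * t * n) * (n : G)⁻¹ ∈ normalizer (J (Ω S) : Set G) := this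
      simpa [mul_assoc] using e
    intro s hs
    have : (⟨s, hs⟩ : S) ∈ T := hT ▸ mem_top _
    exact this
  refine h.nf y hy S (h.mx S (J (Ω S)) (fun hb => h.zn S (le_bot_iff.1 (hb ▸ le_J zS))) WS ?_ y yW)
  intro g hg
  refine J_norm fun R hR => key _ (le_trans (fun t ht => ?_) SN)
  rw [← hg]
  exact mem_sm.2 (WS (le_J hR (mem_Zc_sm.1 ht)))

end Cfsg.Agent.RD
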